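import Groth.Agent.Lib.FreeSec29.Main
import Groth.Agent.Lib.FunMor20.BCProj
import Groth.Agent.Lib.GGDesc10.Main
import Groth.Agent.Lib.OX.PullbackTensor

/-!
# The restriction to a relative divisor under base change
-/

set_option autoImplicit false
set_option linter.style.haveILetI false
set_option backward.isDefEq.respectTransparency false
set_option maxHeartbeats 1000000

universe u

open CategoryTheory CategoryTheory.Limits AlgebraicGeometry Opposite TopologicalSpace

noncomputable section

namespace GrothLib.FreeSec29

variable {P P' T T' C S : Scheme.{u}} {p : P ⟶ T} {q : P ⟶ C} {p' : P' ⟶ T'} {u : T' ⟶ T} {v : P' ⟶ P}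
  {q' : P' ⟶ C}

/-- Pulling back `F ⊗ q^* -`. -/
def pullG (hq : v ≫ q = q') (F : P.Modules) :
    G q F ⋙ Scheme.Modules.pullback v ≅ G q' ((Scheme.Modules.pullback v).obj F) :=
  NatIso.ofComponents (fun N => OX.pullTensorIso v F ((Scheme.Modules.pullback q).obj N) ≪≫
      ((DCoh.tensorBi (X := P')).obj ((Scheme.Modules.pullback v).obj F)).mapIso
        ((Scheme.Modules.pullbackComp v q).app N ≪≫ (Scheme.Modules.pullbackCongr hq).app N))
    fun {M N} a => by
      have h1 := OX.pullTensorIso_natural₂ v F ((Scheme.Modules.pullback q).map a)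
      have h2 := congrArg ((DCoh.tensorBi (X := P')).obj ((Scheme.Modules.pullback v).obj F)).map
        (((Scheme.Modules.pullbackComp v q).hom ≫ (Scheme.Modules.pullbackCongr hq).hom).naturality a)
      simp only [Functor.map_comp, Functor.comp_map, NatTrans.comp_app, Iso.trans_hom, Functor.mapIso_hom,
        Iso.app_hom] at h1 h2 ⊢
      erw [reassoc_of% h1, h2]
      simp only [Category.assoc]

/-- Base change for the part of `F` on a divisor finite over the base. -/
theorem isIso_bcMap_quot (h : IsPullback v p' p u) {a : T ⟶ S} {c : C ⟶ S} (hsq : IsPullback p q a c)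
    {D : C.IdealSheafData} [IsAffineHom (D.subschemeι ≫ c)] {N : C.Modules} [N.IsQuasicoherent]
    (hk : ClSub.KilledByIdeal D N) {F : P.Modules} (hF : FlatMod.IsFinLocFree F) :
    IsIso (AffBC.bcMap h ((G q F).obj N)) := by
  let ι := D.subschemeι
  let j := pullback.fst q ι
  let r := pullback.snd q ι
  have H : IsPullback r j ι q := (IsPullback.of_hasPullback q ι).flip
  haveI := QCoh.isIso_unit_of_killed ι N (by rwa [Scheme.IdealSheafData.ker_subschemeι])
  let N₀ := (Scheme.Modules.pullback ι).obj N
  haveI : N₀.IsQuasicoherent := FittSheaf.isQuasicoherent_pullback ι N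
  haveI := AffBC.isIso_bcMap H N₀
  haveI : IsClosedImmersion j := inferInstance
  let M := (Scheme.Modules.pullback r).obj N₀
  haveI : M.IsQuasicoherent := FittSheaf.isQuasicoherent_pullback r N₀
  haveI := ProjFormula.isIso_projHom j hF M
  let M' := ((DCoh.tensorBi (X := (pullback q ι : Scheme.{u}))).obj ((Scheme.Modules.pullback j).obj F)).obj M
  haveI : M'.IsQuasicoherent :=
    VA.isQCoh_tensor (haveI := (Euler.isCoh_of_isFinLocFree hF).1; FittSheaf.isQuasicoherent_pullback j F) ‹M.IsQuasicoherent›
  let e : (G q F).obj N ≅ (Scheme.Modules.pushforward j).obj M' :=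
    (G q F).mapIso (asIso ((Scheme.Modules.pullbackPushforwardAdjunction ι).unit.app N)) ≪≫
      ((DCoh.tensorBi (X := P)).obj F).mapIso (asIso (AffBC.bcMap H N₀)) ≪≫ asIso (ProjFormula.projHom j F M)
  haveI : IsAffineHom (j ≫ p) :=
    MorphismProperty.of_isPullback ((H.flip).paste_horiz hsq).flip ‹IsAffineHom (ι ≫ c)›
  -- base change for `j_* M'`
  have h' : IsPullback (pullback.fst j v) (pullback.snd j v) j v := IsPullback.of_hasPullback j v
  haveI hb : IsIso (AffBC.bcMap h ((Scheme.Modules.pushforward j).obj M')) := by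
    let h'' := h'.paste_vert h
    haveI := AffBC.isIso_bcMap h' M'
    haveI := AffBC.isIso_bcMap h'' M'
    haveI hc : IsIso ((Scheme.Modules.pullback u).map ((Scheme.Modules.pushforwardComp j p).inv.app M') ≫
        AffBC.bcMap h ((Scheme.Modules.pushforward j).obj M') ≫
        (Scheme.Modules.pushforward p').map (AffBC.bcMap h' M') ≫
        (Scheme.Modules.pushforwardComp (pullback.snd j v) p').hom.app _) := by
      rw [FunMor20.bcMap_comp h h' h'' M']
      infer_instance
    haveI := @IsIso.of_isIso_comp_left _ _ _ _ _ ((Scheme.Modules.pullback u).map ((Scheme.Modules.pushforwardComp j p).inv.app M')) _ inferInstance hc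
    exact IsIso.of_isIso_comp_right (AffBC.bcMap h ((Scheme.Modules.pushforward j).obj M'))
      ((Scheme.Modules.pushforward p').map (AffBC.bcMap h' M') ≫
        (Scheme.Modules.pushforwardComp (pullback.snd j v) p').hom.app _)
  haveI : IsIso ((Scheme.Modules.pullback u).map ((Scheme.Modules.pushforward p).map e.hom) ≫
      AffBC.bcMap h ((Scheme.Modules.pushforward j).obj M')) := inferInstance
  haveI hr : IsIso (AffBC.bcMap h ((G q F).obj N) ≫
      (Scheme.Modules.pushforward p').map ((Scheme.Modules.pullback v).map e.hom)) := by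
    rw [← FunMor20.bcMap_natural h e.hom]
    infer_instance
  exact IsIso.of_isIso_comp_right (AffBC.bcMap h ((G q F).obj N))
    ((Scheme.Modules.pushforward p').map ((Scheme.Modules.pullback v).map e.hom))

theorem epi_push_pullback_iff (hq : v ≫ q = q') (F : P.Modules) {M N : C.Modules} (β : M ⟶ N) :
    Epi ((Coh.push p').map ((Scheme.Modules.pullback v).map ((G q F).map β))) ↔
      Epi ((Coh.push p').map ((G q' ((Scheme.Modules.pullback v).obj F)).map β)) :=
  (MorphismProperty.epimorphisms _).arrow_mk_iso_iff
    (Arrow.isoMk ((Coh.push p').mapIso ((pullG hq F).app M)) ((Coh.push p').mapIso ((pullG hq F).app N))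
      ((((Coh.push p').map_comp _ _).symm.trans
        (congrArg (Coh.push p').map ((pullG hq F).hom.naturality β).symm)).trans ((Coh.push p').map_comp _ _)))

theorem epi_restrict_baseChange (h : IsPullback v p' p u) (hq : v ≫ q = q') {a : T ⟶ S} {c : C ⟶ S}
    (hsq : IsPullback p q a c) [IsNoetherian C] [QuasiCompact p] [QuasiSeparated p]
    {D : C.IdealSheafData} [IsAffineHom (D.subschemeι ≫ c)] {F : P.Modules} (hF : FlatMod.IsFinLocFree F) :
    (Epi ((Coh.push p).map ((G q F).map (ClSub.toSubscheme D))) →
      Epi ((Coh.push p').map ((G q' ((Scheme.Modules.pullback v).obj F)).map (ClSub.toSubscheme D)))) ∧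
    (Flat u → Surjective u →
      Epi ((Coh.push p').map ((G q' ((Scheme.Modules.pullback v).obj F)).map (ClSub.toSubscheme D))) →
      Epi ((Coh.push p).map ((G q F).map (ClSub.toSubscheme D)))) := by
  rw [← epi_push_pullback_iff hq F (ClSub.toSubscheme D)]
  haveI : (ClSub.quotMod D).IsQuasicoherent := (QCoh.pushUnit_isCoh D.subschemeι).1
  let β := (G q F).map (ClSub.toSubscheme D)
  haveI := isIso_bcMap_quot h hsq (ArSurf29.killedByIdeal_quotMod (le_refl D)) hF (N := ClSub.quotMod D)
  have hn := FunMor20.bcMap_natural h β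
  refine ⟨fun he => ?_, fun hfl hsurj he => ?_⟩
  · haveI : (Scheme.Modules.pullback u).IsLeftAdjoint :=
      (Scheme.Modules.pullbackPushforwardAdjunction u).isLeftAdjoint
    haveI : Epi ((Scheme.Modules.pullback u).map ((Scheme.Modules.pushforward p).map β)) :=
      @Functor.map_epi _ _ _ _ (Scheme.Modules.pullback u) _ _ _ _ he
    have : Epi (AffBC.bcMap h ((G q F).obj (Coh.structureModule C)) ≫
        (Scheme.Modules.pushforward p').map ((Scheme.Modules.pullback v).map β)) := by
      rw [← hn]; exact epi_comp _ _
    exact epi_of_epi (AffBC.bcMap h ((G q F).obj (Coh.structureModule C))) _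
  · haveI := hfl
    haveI := hsurj
    haveI : ((G q F).obj (Coh.structureModule C)).IsQuasicoherent :=
      VA.isQCoh_tensor (Euler.isCoh_of_isFinLocFree hF).1
        (VA.isQCoh_pullback q (M := Coh.structureModule C) (HomSh.isCoh_structureModule C).1)
    haveI := FlatBC.isIso_bcMap h ((G q F).obj (Coh.structureModule C))
    refine GGDesc10.epi_of_epi_pullback u _ ?_
    have : Epi ((Scheme.Modules.pullback u).map ((Scheme.Modules.pushforward p).map β) ≫
        AffBC.bcMap h ((G q F).obj (ClSub.quotMod D))) := by
      rw [hn]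
      haveI : Epi ((Scheme.Modules.pushforward p').map ((Scheme.Modules.pullback v).map β)) := he
      exact epi_comp _ _
    have e : (Scheme.Modules.pullback u).map ((Scheme.Modules.pushforward p).map β) =
        ((Scheme.Modules.pullback u).map ((Scheme.Modules.pushforward p).map β) ≫
          AffBC.bcMap h ((G q F).obj (ClSub.quotMod D))) ≫ inv (AffBC.bcMap h ((G q F).obj (ClSub.quotMod D))) := by
      rw [Category.assoc, IsIso.hom_inv_id, Category.comp_id]
    refine cast (congrArg Epi e.symm) ?_
    exact @epi_comp _ _ _ _ _ _ this _ inferInstance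

end GrothLib.FreeSec29
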