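import Groth.Agent.Lib.RegSheaf.DerivedX1
import Groth.Agent.Lib.DerCat.RDMiddle
import Groth.Agent.Lib.DerCat.DimShiftRD
import Groth.Agent.Lib.Euler.Divisor
import Groth.Agent.Lib.AffBC.Basic
import Groth.Agent.Lib.ProjFormula.Iso
import Groth.Agent.Lib.Cohom.ResolutionCompare
import Groth.Agent.Lib.Cohom.PushDerived
import Groth.Agent.Lib.Cohom.Compare
import Groth.Agent.Lib.RpushSupp20.Main
import Groth.Agent.Lib.QCoh.ClosedImmersion
import Groth.Agent.Lib.QCoh.SupportExact
import Groth.Agent.Lib.EulerPull.Basic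
import Groth.Agent.Lib.OX.Tensor
import Groth.Agent.Lib.KSix19.BettiExact.Homology
import Groth.Agent.Lib.ArSurf29.DivSum
import Groth.Agent.Lib.VA.Tensor
import Groth.Prelude.Def_Curve

/-!
# Twisting down by a relative divisor
-/

set_option autoImplicit false
set_option linter.style.haveILetI false
set_option backward.isDefEq.respectTransparency false
set_option maxHeartbeats 1000000

universe u

open CategoryTheory CategoryTheory.Limits AlgebraicGeometry Opposite TopologicalSpace

noncomputable section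

namespace GrothLib.FreeSec29

section

variable {P T C S : Scheme.{u}} {p : P ⟶ T} {q : P ⟶ C} {a : T ⟶ S} {c : C ⟶ S}

/-- `F ⊗ q^* -`. -/
abbrev G (q : P ⟶ C) (F : P.Modules) : C.Modules ⥤ P.Modules :=
  Scheme.Modules.pullback q ⋙ (DCoh.tensorBi (X := P)).obj F

instance additive_pullback (q : P ⟶ C) : (Scheme.Modules.pullback q).Additive :=
  haveI : (Scheme.Modules.pullback q).IsLeftAdjoint :=
    (Scheme.Modules.pullbackPushforwardAdjunction q).isLeftAdjoint
  inferInstance

theorem shortExact_map [Flat q] {F : P.Modules} (hF : FlatMod.IsFinLocFree F) (S : ShortComplex C.Modules)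
    (hS : S.ShortExact) : (S.map (G q F)).ShortExact :=
  haveI h : ((S.map (Scheme.Modules.pullback q)).map ((DCoh.tensorBi (X := P)).obj F)).ShortExact :=
    KSix19.BettiExact.shortExact_tensorBi (OX.flat_of_isFinLocFree hF) (EulerPull.shortExact_pullback q hS)
  ShortComplex.shortExact_of_iso
    (ShortComplex.isoMk (Iso.refl ((G q F).obj S.X₁)) (Iso.refl ((G q F).obj S.X₂)) (Iso.refl ((G q F).obj S.X₃))
      ((Category.id_comp _).trans (Category.comp_id _).symm)
      ((Category.id_comp _).trans (Category.comp_id _).symm)) h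

/-- Modules killed by a divisor finite over the base have no higher direct image. -/
theorem isZero_R1 [HasInjectiveResolutions P.Modules] (hsq : IsPullback p q a c) {D : C.IdealSheafData}
    [IsAffineHom (D.subschemeι ≫ c)] {N : C.Modules} [N.IsQuasicoherent] (hk : ClSub.KilledByIdeal D N)
    {F : P.Modules} (hF : FlatMod.IsFinLocFree F) : IsZero ((Coh.Rpush p 1).obj ((G q F).obj N)) := by
  let ι := D.subschemeι
  let j := pullback.fst q ι
  let r := pullback.snd q ι
  have H : IsPullback r j ι q := (IsPullback.of_hasPullback q ι).flip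
  haveI := QCoh.isIso_unit_of_killed ι N (by rwa [Scheme.IdealSheafData.ker_subschemeι])
  let N₀ := (Scheme.Modules.pullback ι).obj N
  haveI : N₀.IsQuasicoherent := FittSheaf.isQuasicoherent_pullback ι N
  haveI := AffBC.isIso_bcMap H N₀
  haveI : IsClosedImmersion j := inferInstance
  let M := (Scheme.Modules.pullback r).obj N₀
  haveI : M.IsQuasicoherent := FittSheaf.isQuasicoherent_pullback r N₀
  haveI := ProjFormula.isIso_projHom j hF M
  let M' := ((DCoh.tensorBi (X := (pullback q ι : Scheme.{u}))).obj ((Scheme.Modules.pullback j).obj F)).obj M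
  haveI : M'.IsQuasicoherent :=
    VA.isQCoh_tensor (haveI := (Euler.isCoh_of_isFinLocFree hF).1; FittSheaf.isQuasicoherent_pullback j F) ‹M.IsQuasicoherent›
  let e : (G q F).obj N ≅ (Scheme.Modules.pushforward j).obj M' :=
    (G q F).mapIso (asIso ((Scheme.Modules.pullbackPushforwardAdjunction ι).unit.app N)) ≪≫
      ((DCoh.tensorBi (X := P)).obj F).mapIso (asIso (AffBC.bcMap H N₀)) ≪≫ asIso (ProjFormula.projHom j F M)
  haveI : HasInjectiveResolutions (pullback q ι : Scheme.{u}).Modules := RpushSupp20.hasInjectiveResolutions _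
  obtain ⟨e'⟩ := Cohom.nonempty_Rpush_pushforward_iso j p M' 1
  haveI : IsAffineHom (j ≫ p) :=
    MorphismProperty.of_isPullback ((H.flip).paste_horiz hsq).flip ‹IsAffineHom (ι ≫ c)›
  exact ((Cohom.isZero_Rpush_of_acyclicOn (j ≫ p) M' (Cohom.acyclicOn_of_isAffineHom (j ≫ p) M') 0).of_iso
    e').of_iso ((Coh.Rpush p 1).mapIso e)

/-- The middle term of the restriction sequence. -/
def unitIso (F : P.Modules) : (G q F).obj (Coh.structureModule C) ≅ F :=
  ((DCoh.tensorBi (X := P)).obj F).mapIso (OX.pullUnitIso q) ≪≫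
    (((OX.tensorBraiding (X := P)).app _).app _).symm ≪≫ OX.tensorUnitLeftIso F

theorem isZero_twist_iff [HasInjectiveResolutions P.Modules] [Flat q] (hsq : IsPullback p q a c)
    {D : C.IdealSheafData} [IsAffineHom (D.subschemeι ≫ c)] [IsNoetherian C]
    {F : P.Modules} (hF : FlatMod.IsFinLocFree F) :
    IsZero ((Coh.Rpush p 1).obj ((G q F).obj (ClSub.idealMod D))) ↔
      IsZero ((Coh.Rpush p 1).obj F) ∧
        Epi ((Coh.push p).map ((G q F).map (ClSub.toSubscheme D))) := by
  haveI := Euler.epi_toSubscheme D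
  have w : ClSub.idealModι D ≫ ClSub.toSubscheme D = 0 := kernel.condition _
  have hS : (ShortComplex.mk (ClSub.idealModι D) (ClSub.toSubscheme D) w).ShortExact :=
    { exact := ShortComplex.exact_of_f_is_kernel _ (kernelIsKernel _)
      mono_f := inferInstanceAs (Mono (kernel.ι (ClSub.toSubscheme D)))
      epi_g := Euler.epi_toSubscheme D }
  have hS' := shortExact_map (q := q) hF _ hS
  haveI : (ClSub.quotMod D).IsQuasicoherent := (QCoh.pushUnit_isCoh D.subschemeι).1
  have h3 := isZero_R1 hsq (ArSurf29.killedByIdeal_quotMod (le_refl D)) hF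
  refine ⟨fun h => ⟨(HomGamma.isZero_rightDerived_X₂ (Scheme.Modules.pushforward p) 0 _ hS' h h3).of_iso
    ((Coh.Rpush p 1).mapIso (unitIso F)).symm, ?_⟩, fun h => ?_⟩
  · exact (HomGamma.shortExact_map_of_isZero (Scheme.Modules.pushforward p) hS' h).epi_g
  · haveI : Epi ((Scheme.Modules.pushforward p).map
        ((ShortComplex.mk (ClSub.idealModι D) (ClSub.toSubscheme D) w).map (G q F)).g) := h.2
    exact RegSheaf.isZero_rightDerived_X₁_one (Scheme.Modules.pushforward p) _ hS'
      (h.1.of_iso ((Coh.Rpush p 1).mapIso (unitIso F)))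

theorem epi_restrict_of_le [HasInjectiveResolutions P.Modules] [Flat q] (hsq : IsPullback p q a c)
    {D D' : C.IdealSheafData} [IsAffineHom (D.subschemeι ≫ c)] [IsNoetherian C] (hle : D ≤ D')
    {F : P.Modules} (hF : FlatMod.IsFinLocFree F)
    (h : Epi ((Coh.push p).map ((G q F).map (ClSub.toSubscheme D)))) :
    Epi ((Coh.push p).map ((G q F).map (ClSub.toSubscheme D'))) := by
  haveI := Euler.epi_toSubscheme D
  haveI := Euler.epi_toSubscheme D'
  have hz : kernel.ι (ClSub.toSubscheme D) ≫ ClSub.toSubscheme D' = 0 := by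
    haveI : (ClSub.quotMod D').IsQuasicoherent := (QCoh.pushUnit_isCoh D'.subschemeι).1
    haveI : (ClSub.idealMod D).IsQuasicoherent := (QCoh.isCoh_kernel (ClSub.toSubscheme D)
      (HomSh.isCoh_structureModule C) (QCoh.pushUnit_isCoh D.subschemeι)).1
    refine Scheme.Modules.hom_ext _ _ fun W => ?_
    ext (k : Γ(ClSub.idealMod D, W))
    show D'.subschemeι.app W (IdealModSec.val D W k) = 0
    refine D'.subscheme.sheaf.eq_of_locally_eq'
      (fun U : {U : C.affineOpens // U.1 ≤ W} => D'.subschemeι ⁻¹ᵁ U.1.1) (D'.subschemeι ⁻¹ᵁ W)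
      (fun U => homOfLE (D'.subschemeι.preimage_mono U.2)) ?_ _ _ fun U => ?_
    · intro y hy
      obtain ⟨U, hyU, hU⟩ := BlowUp.exists_affine_mem_le (show D'.subschemeι y ∈ W from hy)
      exact Opens.mem_iSup.2 ⟨⟨U, hU⟩, hyU⟩
    · refine Eq.trans ?_ (map_zero _).symm
      refine (ConcreteCategory.congr_hom (D'.subschemeι.naturality (homOfLE U.2).op) _).symm.trans ?_
      show D'.subschemeι.app U.1.1 (InvExt.fres C U.2 (IdealModSec.val D W k)) = 0
      rw [← IdealModSec.val_mres]
      have h1 := hle U.1 (IdealModSec.val_mem D U.1 (InvExt.mres _ U.2 k))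
      rwa [← D'.ker_subschemeι_app U.1] at h1
  let r : ClSub.quotMod D ⟶ ClSub.quotMod D' :=
    (Abelian.epiDesc (ClSub.toSubscheme D) (ClSub.toSubscheme D') hz)
  have hr : ClSub.toSubscheme D ≫ r = ClSub.toSubscheme D' := Abelian.comp_epiDesc _ _ _
  haveI : Epi r := epi_of_epi_fac hr
  haveI : (ClSub.quotMod D).IsQuasicoherent := (QCoh.pushUnit_isCoh D.subschemeι).1
  haveI : (ClSub.quotMod D').IsQuasicoherent := (QCoh.pushUnit_isCoh D'.subschemeι).1
  haveI : (kernel r).IsQuasicoherent := QCoh.isQuasicoherent_kernel r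
  have hS : (ShortComplex.mk (kernel.ι r) r (kernel.condition r)).ShortExact :=
    { exact := ShortComplex.exact_of_f_is_kernel _ (kernelIsKernel _) }
  have hS' := shortExact_map (q := q) hF _ hS
  have h1 : Epi ((Coh.push p).map ((G q F).map r)) :=
    (HomGamma.shortExact_map_of_isZero (Scheme.Modules.pushforward p) hS'
      (isZero_R1 hsq (ArSurf29.killedByIdeal_of_mono (kernel.ι r) (ArSurf29.killedByIdeal_quotMod (le_refl D))) hF)).epi_g
  rw [← hr, Functor.map_comp, Functor.map_comp]
  exact @epi_comp _ _ _ _ _ _ h _ h1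

end

variable {k : Type u} [Field k] {C : Scheme.{u}} [C.Over (Spec (CommRingCat.of k))]

theorem setup (hC : Curve.IsSmoothProperCurve k C (C ↘ (Spec (CommRingCat.of k)))) {D : C.IdealSheafData}
    (hD : _root_.BlowUp.IsEffCartierIdeal D) (T : Scheme.{u}) (a : T ⟶ Spec (CommRingCat.of k)) :
    IsNoetherian C ∧ IsAffineHom (D.subschemeι ≫ (C ↘ Spec (CommRingCat.of k))) ∧
      Flat (pullback.snd a (C ↘ Spec (CommRingCat.of k))) := by
  obtain ⟨hp, hs, hint, hdim⟩ := hC
  haveI := hp
  haveI := Euler.isFinite_subschemeι_comp k hdim.le hD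
  haveI : Flat a := inferInstance
  exact ⟨Euler.isNoetherian_of_proper (X := C) k, inferInstance, inferInstance⟩

end GrothLib.FreeSec29
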